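import Groth.Agent.ModStackLib.Hom
import Groth.Agent.KFlatLib.PushTensor
import Groth.Agent.KFlatLib.PullTensor
import Groth.Prelude.Def_HiggsSt

/-!
# Comparison maps of twisted endomorphisms
-/

set_option autoImplicit false
set_option linter.all false
set_option backward.isDefEq.respectTransparency false
set_option backward.isDefEq.respectTransparency.types false

noncomputable section

universe u

open CategoryTheory CategoryTheory.Limits AlgebraicGeometry Opposite FibCat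
open KFlatLib (pb pf tens puSec puSecLE shTm)
open QCohDescLib (compIso)

namespace EndoStackLib

variable {X S : Scheme.{u}} {f : X ⟶ S} {F : X.Modules}

/-- The comparison map of tensor products. -/
def tMap {Y Z : Scheme.{u}} (h : Y ⟶ Z) {E₁ F₁ : Z.Modules} {E₂ F₂ : Y.Modules}
    (c : E₁ ⟶ pf h E₂) (cF : F₁ ⟶ pf h F₂) : tens E₁ F₁ ⟶ pf h (tens E₂ F₂) :=
  (((DCoh.tensorBi (X := Z)).map c).app F₁ ≫ ((DCoh.tensorBi (X := Z)).obj (pf h E₂)).map cF) ≫
    KFlatLib.pushμ h E₂ F₂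

theorem tMap_pin {Y Z : Scheme.{u}} (h : Y ⟶ Z) {E₁ F₁ : Z.Modules} {E₂ F₂ : Y.Modules}
    (c : E₁ ⟶ pf h E₂) (cF : F₁ ⟶ pf h F₂) : HiggsSt.TmulPin h c cF (tMap h c cF) := by
  intro U e w
  refine (congrArg ((KFlatLib.pushμ h E₂ F₂).app U) (KFlatLib.tensorBi_map_shApp c cF U e w)).trans ?_
  exact KFlatLib.pushμ_shApp h E₂ F₂ U _ _

theorem pin_unique {Y Z : Scheme.{u}} (h : Y ⟶ Z) {E₁ F₁ : Z.Modules} {E₂ F₂ : Y.Modules}
    {c : E₁ ⟶ pf h E₂} {cF : F₁ ⟶ pf h F₂} {T T' : tens E₁ F₁ ⟶ pf h (tens E₂ F₂)}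
    (hT : HiggsSt.TmulPin h c cF T) (hT' : HiggsSt.TmulPin h c cF T') : T = T' :=
  KFlatLib.tens_hom_ext fun U m n => (hT U m n).trans (hT' U m n).symm

theorem κ_tMap {Y Z : Scheme.{u}} (h : Y ⟶ Z) {E₁ F₁ : Z.Modules} {E₂ F₂ : Y.Modules}
    (c : E₁ ⟶ pf h E₂) (cF : F₁ ⟶ pf h F₂) :
    ModStackLib.κ h (tMap h c cF) = KFlatLib.pullθ h E₁ F₁ ≫
      (((DCoh.tensorBi (X := Y)).map (ModStackLib.κ h c)).app (pb h F₁) ≫
        ((DCoh.tensorBi (X := Y)).obj E₂).map (ModStackLib.κ h cF)) := by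
  refine KFlatLib.pullTens_hom_ext h fun U m n => ?_
  rw [ModStackLib.κ_puSec]
  refine (tMap_pin h c cF U m n).trans ?_
  show _ = ((((DCoh.tensorBi (X := Y)).map (ModStackLib.κ h c)).app (pb h F₁) ≫
      ((DCoh.tensorBi (X := Y)).obj E₂).map (ModStackLib.κ h cF))).app _
    ((KFlatLib.pullθ h E₁ F₁).app _ (puSec h (shTm m n)))
  rw [KFlatLib.pullθ_puSec]
  refine Eq.trans ?_ (KFlatLib.tensorBi_map_shApp (ModStackLib.κ h c) (ModStackLib.κ h cF) _ _ _).symm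
  rw [ModStackLib.κ_puSec, ModStackLib.κ_puSec]
  rfl

theorem isCart_tMap {Y Z : Scheme.{u}} (h : Y ⟶ Z) {E₁ F₁ : Z.Modules} {E₂ F₂ : Y.Modules}
    {c : E₁ ⟶ pf h E₂} {cF : F₁ ⟶ pf h F₂} (hc : ModSt.IsCart h c) (hF : ModSt.IsCart h cF) :
    ModSt.IsCart h (tMap h c cF) := by
  haveI := ModStackLib.isIso_κ h hc
  haveI := ModStackLib.isIso_κ h hF
  haveI : IsIso (ModStackLib.κ h (tMap h c cF)) := by rw [κ_tMap]; infer_instance
  have := ModStackLib.isCart_of_iso h (ModStackLib.κ h (tMap h c cF))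
  rwa [show (Scheme.Modules.pullbackPushforwardAdjunction h).homEquiv _ _ (ModStackLib.κ h (tMap h c cF)) =
    tMap h c cF from ((Scheme.Modules.pullbackPushforwardAdjunction h).homEquiv _ _).apply_symm_apply _] at this

/-- Restriction along an equality of opens is the same section. -/
theorem res_heq {Y : Scheme.{u}} (M : Y.Modules) {V V' : Y.Opens} (e : V = V') (i : op V' ⟶ op V)
    (y : Γ(M, V')) : HEq (M.presheaf.map i y) y := by
  subst e
  rw [Subsingleton.elim i (𝟙 _), M.presheaf.map_id]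
  rfl

section twist

variable (A B : HiggsSt.Obj f F) (g : A.toObj ⟶ B.toObj)

theorem exists_cF : ∃ cF : B.FT ⟶ pf g.top A.FT,
    ∀ (U : X.Opens) (w : Γ(F, U)), HEq (cF.app (B.p ⁻¹ᵁ U) (B.ι.app U w)) (A.ι.app U w) := by
  obtain ⟨v, hv⟩ := (B.ιcart (pf g.top A.FT)).2 (A.ι ≫ (Scheme.Modules.pushforwardCongr g.w_p.symm).hom.app A.FT ≫
    (Scheme.Modules.pushforwardComp g.top B.p).inv.app A.FT)
  refine ⟨v, fun U w => ?_⟩
  have e : g.top ⁻¹ᵁ (B.p ⁻¹ᵁ U) = A.p ⁻¹ᵁ U := by rw [← g.w_p]; rfl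
  have h := congr($(congrArg (fun ψ => Scheme.Modules.Hom.app ψ U) hv) w)
  refine (heq_of_eq h).trans ?_
  simp only [Scheme.Modules.Hom.comp_app, ConcreteCategory.comp_apply]
  rw [Scheme.Modules.pushforwardComp_inv_app_app]
  rw [Scheme.Modules.pushforwardCongr_hom_app_app]
  exact res_heq A.FT e _ _

end twist

end EndoStackLib
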