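import Groth.Agent.EndoStackLib.Twist

/-!
# Pairs are fibred in groupoids
-/

set_option autoImplicit false
set_option linter.all false
set_option backward.isDefEq.respectTransparency false
set_option backward.isDefEq.respectTransparency.types false
set_option maxHeartbeats 800000

noncomputable section

universe u

open CategoryTheory CategoryTheory.Limits AlgebraicGeometry Opposite FibCat
open KFlatLib (pb pf tens)

namespace EndoStackLib

variable {X S : Scheme.{u}} {f : X ⟶ S} {F : X.Modules}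

theorem isCart_comp {Y Z W : Scheme.{u}} {h₁ : Y ⟶ Z} {h₂ : Z ⟶ W} {P : W.Modules} {N : Z.Modules} {M : Y.Modules}
    {c₁ : N ⟶ pf h₁ M} {c₂ : P ⟶ pf h₂ N} (h₁c : ModSt.IsCart h₁ c₁) (h₂c : ModSt.IsCart h₂ c₂) :
    ModSt.IsCart (h₁ ≫ h₂) (c₂ ≫ (Scheme.Modules.pushforward h₂).map c₁ ≫
      (Scheme.Modules.pushforwardComp h₁ h₂).hom.app M) := by
  intro M'
  have heq : (fun v : M ⟶ M' => (c₂ ≫ (Scheme.Modules.pushforward h₂).map c₁ ≫
      (Scheme.Modules.pushforwardComp h₁ h₂).hom.app M) ≫ (Scheme.Modules.pushforward (h₁ ≫ h₂)).map v) =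
      ((Scheme.Modules.pushforwardComp h₁ h₂).app M').homToEquiv ∘
        (fun w : N ⟶ pf h₁ M' => c₂ ≫ (Scheme.Modules.pushforward h₂).map w) ∘
        (fun v : M ⟶ M' => c₁ ≫ (Scheme.Modules.pushforward h₁).map v) := by
    funext v
    simp only [Function.comp_apply, Iso.homToEquiv_apply, Iso.app_hom, Category.assoc, Functor.map_comp]
    rw [← (Scheme.Modules.pushforwardComp h₁ h₂).hom.naturality v]
    rfl
  rw [heq]
  exact (Equiv.bijective _).comp ((h₂c _).comp (h₁c M'))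

/-- The twisting module transported along a morphism of the underlying modules. -/
theorem exists_pair {A₁ : ModSt.Obj f} (B : HiggsSt.Obj f F) (g : A₁ ⟶ B.toObj) :
    ∃ (A : HiggsSt.Obj f F) (e : A.toObj = A₁), Sq A B (eqToHom e ≫ g) := by
  let η := (Scheme.Modules.pullbackPushforwardAdjunction g.top).unit.app B.FT
  let A' : HiggsSt.Obj f F :=
    { A₁ with
      FT := pb g.top B.FT
      ι := (B.ι ≫ (Scheme.Modules.pushforward B.p).map η ≫
        (Scheme.Modules.pushforwardComp g.top B.p).hom.app (pb g.top B.FT)) ≫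
          (Scheme.Modules.pushforwardCongr g.w_p).hom.app (pb g.top B.FT)
      ιcart := isCart_congr g.w_p (isCart_comp (BlowRegLib.ModFibGrpd.isCart_unit g.top B.FT) B.ιcart)
      φ := 0 }
  let g' : A'.toObj ⟶ B.toObj := g
  obtain ⟨v, hv⟩ := (g.cart _).2 (B.φ ≫ Tc A' B g')
  let A : HiggsSt.Obj f F := { A' with φ := v }
  refine ⟨A, rfl, ?_⟩
  have hg : Sq A B g := by
    show B.φ ≫ Tc A B g = g.c ≫ (Scheme.Modules.pushforward g.top).map v
    exact hv.symm
  rw [eqToHom_refl, Category.id_comp]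
  exact hg

theorem exists_lift {B : HiggsSt.Obj f F} {V : Over S} (g : V ⟶ B.base) :
    ∃ (A : HiggsSt.Obj f F) (φ : A ⟶ B), (HiggsSt.Obj.forget f F).IsHomLift g φ := by
  obtain ⟨A₁, φ₁, h⟩ := BlowRegLib.ModFibGrpd.exists_lift (f := f) (B := B.toObj) g
  obtain ⟨A, rfl, hA⟩ := exists_pair B φ₁
  rw [eqToHom_refl, Category.id_comp] at hA
  refine ⟨A, ⟨φ₁, compat_iff.2 hA⟩, ?_⟩
  haveI := h
  exact IsHomLift.of_fac' (HiggsSt.Obj.forget f F) g _ (IsHomLift.domain_eq (ModSt.Obj.forget f) g φ₁) rfl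
    (IsHomLift.fac' (ModSt.Obj.forget f) g φ₁)

theorem stronglyCart {A B : HiggsSt.Obj f F} (φ : A ⟶ B) :
    (HiggsSt.Obj.forget f F).IsStronglyCartesian ((HiggsSt.Obj.forget f F).map φ) φ := by
  refine @Functor.IsStronglyCartesian.mk _ _ _ _ (HiggsSt.Obj.forget f F) _ _ _ _ _ φ
    (IsHomLift.map (HiggsSt.Obj.forget f F) φ) ?_
  intro Z g ψ hψ
  haveI := hψ
  have hb : g ≫ φ.hom.base = ψ.hom.base :=
    IsHomLift.eq_of_isHomLift (HiggsSt.Obj.forget f F) (g ≫ (HiggsSt.Obj.forget f F).map φ) ψ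
  haveI := BlowRegLib.ModFibGrpd.stronglyCart φ.hom
  haveI : (ModSt.Obj.forget f).IsHomLift (g ≫ (ModSt.Obj.forget f).map φ.hom) ψ.hom := by
    rw [show g ≫ (ModSt.Obj.forget f).map φ.hom = (ModSt.Obj.forget f).map ψ.hom from hb]
    exact IsHomLift.map (p := ModSt.Obj.forget f) ψ.hom
  obtain ⟨χ, ⟨hχ, hχφ⟩, huniq⟩ := Functor.IsStronglyCartesian.universal_property' (p := ModSt.Obj.forget f)
    (f := (ModSt.Obj.forget f).map φ.hom) (φ := φ.hom) (a' := Z.toObj) g ψ.hom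
  let χ' : Z ⟶ A := ⟨χ, compat_iff.2 (sq_cancel (compat_iff.1 φ.compat) (by
    rw [hχφ]; exact compat_iff.1 ψ.compat))⟩
  haveI := hχ
  have hbase : χ.base = g := (IsHomLift.eq_of_isHomLift (ModSt.Obj.forget f) g χ).symm
  refine ⟨χ', ⟨?_, HiggsSt.Obj.hom_ext hχφ⟩, ?_⟩
  · rw [← hbase]
    exact IsHomLift.map (p := HiggsSt.Obj.forget f F) χ'
  · rintro χ'' ⟨hl, he⟩
    refine HiggsSt.Obj.hom_ext (huniq χ''.hom ⟨?_, congrArg HiggsSt.Obj.Hom.hom he⟩)
    haveI := hl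
    have : g = χ''.hom.base := IsHomLift.eq_of_isHomLift (HiggsSt.Obj.forget f F) g χ''
    rw [this]
    exact IsHomLift.map (p := ModSt.Obj.forget f) χ''.hom

instance fam_isFibGrpd : IsFibGrpd (HiggsSt.Fam f F).p where
  exists_lift g := exists_lift g
  isStronglyCartesian φ := stronglyCart φ

theorem endo_isFibGrpd : IsFibGrpd (HiggsSt.Endo f F).p := by
  refine @StkTopLib.isFibGrpd_sub (Over S) _ (HiggsSt.Fam f F) fam_isFibGrpd
    (fun A => ModSt.IsCohObj A.toObj) ?_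
  intro y x φ ⟨hflat, hfp⟩
  obtain ⟨e⟩ := BlowRegLib.ModFibGrpd.iso_of_isCart φ.hom.top φ.hom.cart
  haveI : Coh.IsQCoh x.E := HilbLCLib.isQCoh_of_isFP hfp
  refine ⟨y, Iso.refl y, ⟨?_, ?_⟩, IsHomLift.map (p := (HiggsSt.Fam f F).p) (𝟙 y)⟩
  · exact Groth.Agent.RelFlatLib.isFlatOver_of_iso y.q e
      (RGFlatLib.isFlatOver_pullback_of_isPullback φ.hom.isPullback_top x.E hflat)
  · exact Groth.Agent.PerfLib.isFP_of_iso' e (RichLib.ModFlat.isFP_pullback φ.hom.top hfp)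

end EndoStackLib
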