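import Groth.Agent.EndoStackLib.Fib
import Groth.Agent.ModStackLib.Main
import Groth.Agent.S2297
import Groth.Agent.AlgStSetoidLib.Etale

/-!
# Pairs form a stack
-/

set_option autoImplicit false
set_option linter.all false
set_option backward.isDefEq.respectTransparency false
set_option backward.isDefEq.respectTransparency.types false
set_option maxHeartbeats 1600000

noncomputable section

universe u

open CategoryTheory CategoryTheory.Limits AlgebraicGeometry Opposite FibCat
open KFlatLib (pb pf tens)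
open QCohDescLib (compIso)
open ModStackLib (θ κ isIso_κ)

namespace EndoStackLib

variable {X S : Scheme.{u}} {f : X ⟶ S} {F : X.Modules}

section psi

variable {P Q B : HiggsSt.Obj f F}

/-- The endomorphism transported along a morphism and a map to the source. -/
def ψ (P B : HiggsSt.Obj f F) (g : P.toObj ⟶ B.toObj) {Y : Scheme.{u}} (a : Y ⟶ P.XT) {q : Y ⟶ B.XT}
    (e : a ≫ g.top = q) : pb q B.E ⟶ pb q (tens B.E B.FT) :=
  haveI : IsIso (θ (prHom P B g) a e) := ModStackLib.isIso_θ (prHom P B g) a e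
  θ g a e ≫ (Scheme.Modules.pullback a).map P.φ ≫ inv (θ (prHom P B g) a e)

theorem ψ_comp {m : P.toObj ⟶ Q.toObj} (hm : Sq P Q m) (g : Q.toObj ⟶ B.toObj) {g' : P.toObj ⟶ B.toObj}
    (hg : m ≫ g = g') {Y : Scheme.{u}} (s : Y ⟶ P.XT) {a : Y ⟶ Q.XT} (es : s ≫ m.top = a) {q : Y ⟶ B.XT}
    (ea : a ≫ g.top = q) (e' : s ≫ g'.top = q) : ψ P B g' s e' = ψ Q B g a ea := by
  subst hg
  haveI : IsIso (θ (prHom Q B g) a ea) := ModStackLib.isIso_θ (prHom Q B g) a ea
  haveI : IsIso (θ (prHom P Q m) s es) := ModStackLib.isIso_θ (prHom P Q m) s es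
  have h := sqAt_of_sq hm s es
  unfold SqAt at h
  unfold ψ
  simp only [ModStackLib.θ_congr (prHom_comp m g) s _ e',
    ModStackLib.θ_comp (prHom P Q m) (prHom Q B g) s es ea e', ModStackLib.θ_comp m g s es ea e']
  simp only [IsIso.inv_comp, Category.assoc]
  rw [← reassoc_of% h, IsIso.hom_inv_id_assoc]

end psi

variable {T : Over S} {R : Sieve T} (K : Stk.sieveCat R ⥤ᵇ HiggsSt.Endo f F)

/-- The underlying descent datum of modules. -/
abbrev K₀ : Stk.sieveCat R ⥤ᵇ ModSt.Coh f := BasedFunctor.comp K (HiggsSt.Endo.forget f F)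

/-- The members. -/
abbrev Pob (a : (Stk.sieveCat R).obj) : HiggsSt.Obj f F := (K.obj a).obj

theorem sq_mp {a b : (Stk.sieveCat R).obj} (m : a ⟶ b) :
    Sq (Pob K a) (Pob K b) (ModStackLib.mp (K₀ K) m) :=
  compat_iff.1 (K.map m).hom.compat

variable (hR : R ∈ QuotSh.J Scheme.fppfPrecoverage S T)

include hR in
theorem nonempty_cocone [Coh.IsQCoh F] : Nonempty (SpTorsLib.Cocone K) := by
  obtain ⟨c₀⟩ := ModStackLib.nonempty_cocone (K₀ K) hR
  obtain ⟨κ₀, V, g, hg, hfam⟩ := QuotFpqc.exists_family_of_mem (QuotFpqc.mem_fpqc_of_mem_fppf hR)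
  let A₀ : ModSt.Obj f := c₀.pt.obj
  let l : ∀ a, (Pob K a).toObj ⟶ A₀ := fun a => (c₀.leg a).hom
  have hnat : ∀ (a b : (Stk.sieveCat R).obj) (m : a ⟶ b), ModStackLib.mp (K₀ K) m ≫ l b = l a := fun a b m =>
    congrArg InducedCategory.Hom.hom (c₀.leg_nat a b m)
  have eT : A₀.base = T := c₀.pt_base
  have hb : ∀ a, (l a).base = ModStackLib.bh (K₀ K) a ≫ eqToHom eT.symm := fun a => by
    haveI := c₀.leg_lift a
    have := IsHomLift.fac' (ModSt.Coh f).p a.obj.hom (c₀.leg a)
    exact this.trans (Category.assoc _ _ _).symm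
  haveI hE : Coh.IsQCoh A₀.E := HilbLCLib.isQCoh_of_isFP c₀.pt.property.2
  haveI : Coh.IsQCoh (pb A₀.p F) := KFlatLib.isQCoh_pullback A₀.p F
  let A' : HiggsSt.Obj f F :=
    { A₀ with
      FT := pb A₀.p F
      ι := (Scheme.Modules.pullbackPushforwardAdjunction A₀.p).unit.app F
      ιcart := BlowRegLib.ModFibGrpd.isCart_unit A₀.p F
      φ := 0 }
  -- the covering by the members of the family
  let A := ModStackLib.A g hg
  have hcov : Presieve.ofArrows (fun i => (Pob K (A i)).base.left) (fun i => (l (A i)).base.left) ∈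
      Scheme.fpqcPrecoverage A₀.base.left :=
    Precoverage.mem_coverings_of_isPullback (fun i => (ModStackLib.bh (K₀ K) (A i)).left)
      (ModStackLib.fam_mem (K₀ K) g hg hfam) (eqToHom eT).left (fun i => (l (A i)).base.left) (fun i => 𝟙 _) fun i => by
        haveI := ModStackLib.isIso_eqToHom_left eT
        refine (IsPullback.of_horiz_isIso ⟨?_⟩).flip
        rw [Category.id_comp, hb, ← Over.comp_left]
        simp
  have ht : Presieve.ofArrows (fun i => (Pob K (A i)).XT) (fun i => (l (A i)).top) ∈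
      Scheme.fpqcPrecoverage A₀.XT :=
    ModStackLib.tops_mem (fun i => l (A i)) hcov
  have htmap : ∀ (i j : κ₀) (Y : Scheme.{u}) (x : Y ⟶ (Pob K (A i)).XT) (y : Y ⟶ (Pob K (A j)).XT),
      x ≫ (l (A i)).top = y ≫ (l (A j)).top →
      x ≫ ModStackLib.tmap (K₀ K) (A i) = y ≫ ModStackLib.tmap (K₀ K) (A j) := by
    intro i j Y x y h
    haveI := ModStackLib.isIso_eqToHom_left eT.symm
    refine pullback.hom_ext ?_ ?_
    · rw [Category.assoc, Category.assoc, ModStackLib.tmap_fst, ModStackLib.tmap_fst]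
      have := congrArg (· ≫ A₀.p) h
      simp only [Category.assoc, ModSt.Obj.Hom.w_p] at this
      exact this
    · rw [Category.assoc, Category.assoc, ModStackLib.tmap_snd, ModStackLib.tmap_snd,
        ← cancel_mono (eqToHom eT.symm).left]
      have := congrArg (· ≫ A₀.q) h
      simp only [Category.assoc, ModSt.Obj.Hom.w_q, hb, Over.comp_left] at this
      simp only [Category.assoc]
      exact this
  haveI : ∀ i, IsIso (κ (l (A i)).top (l (A i)).c) := fun i => isIso_κ _ (l (A i)).cart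
  haveI : ∀ i, IsIso (κ (l (A i)).top (Tc (Pob K (A i)) A' (l (A i)))) := fun i =>
    isIso_κ _ (Tc_cart (Pob K (A i)) A' (l (A i)))
  let v : ∀ i, pb (l (A i)).top A₀.E ⟶ pb (l (A i)).top (tens A₀.E A'.FT) := fun i =>
    κ (l (A i)).top (l (A i)).c ≫ (Pob K (A i)).φ ≫ inv (κ (l (A i)).top (Tc (Pob K (A i)) A' (l (A i))))
  have hv : ∀ (i : κ₀) (Y : Scheme.{u}) (a : Y ⟶ (Pob K (A i)).XT) (q : Y ⟶ A₀.XT) (e : a ≫ (l (A i)).top = q),
      (Scheme.Modules.pullback a).map (v i) ≫ (compIso (tens A₀.E A'.FT) a e).hom =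
        (compIso A₀.E a e).hom ≫ ψ (Pob K (A i)) A' (l (A i)) a e := by
    intro i Y a q e
    haveI : IsIso (θ (prHom (Pob K (A i)) A' (l (A i))) a e) :=
      ModStackLib.isIso_θ (prHom (Pob K (A i)) A' (l (A i))) a e
    simp only [v, ψ, Functor.map_comp, Functor.map_inv, Category.assoc]
    have h2 := map_κTc (A := Pob K (A i)) (B := A') (l (A i)) a e
    simp only [h2, IsIso.inv_comp, IsIso.Iso.inv_hom, Category.assoc]
    rw [ModStackLib.map_κ (l (A i)) a e]
    erw [Iso.inv_hom_id]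
    simp only [Category.assoc, Category.comp_id]
  have hover : ∀ i j (Y : Scheme.{u}) (a : Y ⟶ (Pob K (A i)).XT) (b : Y ⟶ (Pob K (A j)).XT) (q : Y ⟶ A₀.XT)
      (ea : a ≫ (l (A i)).top = q) (eb : b ≫ (l (A j)).top = q),
      (Scheme.Modules.pullback a).map (v i) ≫ (compIso (tens A₀.E A'.FT) a ea).hom ≫
          (compIso (tens A₀.E A'.FT) b eb).inv =
        ((compIso A₀.E a ea).hom ≫ (compIso A₀.E b eb).inv) ≫ (Scheme.Modules.pullback b).map (v j) := by
    intro i j Y a b q ea eb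
    have h := htmap i j Y a b (ea.trans eb.symm)
    let m := ModStackLib.nPt (K := K₀ K) (x := a) a rfl
    let n := ModStackLib.nPt (K := K₀ K) (x := a) b h
    have em := ModStackLib.sPt_nPt (K := K₀ K) (x := a) a rfl
    have en := ModStackLib.sPt_nPt (K := K₀ K) (x := a) b h
    have e' : ModStackLib.sPt (K₀ K) a ≫ (l (ModStackLib.cPt (K₀ K) a)).top = q := by
      rw [← hnat _ _ m, ModSt.Obj.comp_top, reassoc_of% em, ea]
    have key : ψ (Pob K (A i)) A' (l (A i)) a ea = ψ (Pob K (A j)) A' (l (A j)) b eb :=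
      (ψ_comp (B := A') (sq_mp K m) (l (A i)) (hnat _ _ m) _ em ea e').symm.trans
        (ψ_comp (B := A') (sq_mp K n) (l (A j)) (hnat _ _ n) _ en eb e')
    rw [reassoc_of% (hv i Y a q ea), Category.assoc, key]
    congr 1
    rw [← cancel_mono (compIso (tens A₀.E A'.FT) b eb).hom]
    simp only [Category.assoc, Iso.inv_hom_id, Category.comp_id]
    rw [hv j Y b q eb, Iso.inv_hom_id_assoc]
  haveI : Coh.IsQCoh (tens A₀.E A'.FT) := by
    haveI : Coh.IsQCoh A'.FT := inferInstance
    exact (Groth.Agent.S2297.result A₀.E A'.FT).1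
  obtain ⟨φ₀, hφ₀⟩ := QCohDescLib.exists_hom_descend (fun i => (l (A i)).top) ht A₀.E (tens A₀.E A'.FT) v hover
  let B : HiggsSt.Obj f F := { A' with φ := φ₀ }
  have hfam' : ∀ i, Sq (Pob K (A i)) B (l (A i)) := fun i => by
    refine sq_iff_κ.2 ?_
    show (Scheme.Modules.pullback (l (A i)).top).map φ₀ ≫ κ (l (A i)).top (Tc (Pob K (A i)) A' (l (A i))) = _
    rw [hφ₀ i]
    show (κ (l (A i)).top (l (A i)).c ≫ (Pob K (A i)).φ ≫
      inv (κ (l (A i)).top (Tc (Pob K (A i)) A' (l (A i))))) ≫ _ = _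
    rw [Category.assoc, Category.assoc, IsIso.inv_hom_id, Category.comp_id]
  have hall : ∀ a, Sq (Pob K a) B (l a) := fun a => by
    have hm := ModStackLib.cm_mem (K₀ K) g hg hfam a
    have ht' := ModStackLib.tops_mem (fun i => ModStackLib.mp (K₀ K) (ModStackLib.cm (K₀ K) g hg a i)) hm
    haveI : ∀ i, Flat (ModStackLib.mp (K₀ K) (ModStackLib.cm (K₀ K) g hg a i)).top := fun i =>
      DescLib.ofArrows_flat ht' i
    refine sq_descend (fun i => ModStackLib.mp (K₀ K) (ModStackLib.cm (K₀ K) g hg a i))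
      (DescLib.ofArrows_surj ht') (fun i => sq_mp K _) fun i => ?_
    have hl : ModStackLib.mp (K₀ K) (ModStackLib.cm (K₀ K) g hg a i) ≫ l a =
        ModStackLib.mp (K₀ K) (ModStackLib.cn (K₀ K) g hg a i) ≫ l (A i) := (hnat _ _ _).trans (hnat _ _ _).symm
    have h3 := sq_comp (sq_mp K (ModStackLib.cn (K₀ K) g hg a i)) (hfam' i)
    show Sq (Pob K (ModStackLib.cc (K₀ K) g hg a i)) B (ModStackLib.mp (K₀ K) (ModStackLib.cm (K₀ K) g hg a i) ≫ l a)
    rw [hl]
    exact h3
  exact ⟨{ pt := ⟨B, c₀.pt.property⟩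
           pt_base := eT
           leg := fun a => ObjectProperty.homMk ⟨l a, compat_iff.2 (hall a)⟩
           leg_lift := fun a => IsHomLift.of_fac' (HiggsSt.Endo f F).p _ _ (ModStackLib.baseEq (K₀ K) a) eT
             ((hb a).trans (Category.assoc _ _ _))
           leg_nat := fun a b m => ObjectProperty.hom_ext _ (HiggsSt.Obj.hom_ext (hnat a b m)) }⟩

/-- The underlying cocone of modules. -/
def forgetCocone (c : SpTorsLib.Cocone K) : SpTorsLib.Cocone (K₀ K) where
  pt := (HiggsSt.Endo.forget f F).obj c.pt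
  pt_base := c.pt_base
  leg a := (HiggsSt.Endo.forget f F).map (c.leg a)
  leg_lift a := by
    haveI := c.leg_lift a
    exact IsHomLift.of_fac' (ModSt.Coh f).p _ _ (IsHomLift.domain_eq (HiggsSt.Endo f F).p a.obj.hom (c.leg a))
      c.pt_base (IsHomLift.fac' (HiggsSt.Endo f F).p a.obj.hom (c.leg a))
  leg_nat a b m := ((HiggsSt.Endo.forget f F).toFunctor.map_comp _ _).symm.trans
    (congrArg (HiggsSt.Endo.forget f F).map (c.leg_nat a b m))

include hR in
theorem existsUnique_of_cocones (c c' : SpTorsLib.Cocone K) :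
    ∃! n : c.pt ⟶ c'.pt, (HiggsSt.Endo f F).p.IsHomLift (𝟙 T) n ∧ ∀ a, c.leg a ≫ n = c'.leg a := by
  obtain ⟨n, ⟨hn, hfac⟩, huniq⟩ :=
    ModStackLib.existsUnique_of_cocones (K₀ K) hR (forgetCocone K c) (forgetCocone K c')
  obtain ⟨κ₀, V, g, hg, hfam⟩ := QuotFpqc.exists_family_of_mem (QuotFpqc.mem_fpqc_of_mem_fppf hR)
  have e₁ : c.pt.obj.base = T := c.pt_base
  let A := ModStackLib.A g hg
  let m : ∀ i, (Pob K (A i)).toObj ⟶ c.pt.obj.toObj := fun i => (c.leg (A i)).hom.hom
  have hb : ∀ i, (m i).base = ModStackLib.bh (K₀ K) (A i) ≫ eqToHom e₁.symm := fun i => by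
    haveI := c.leg_lift (A i)
    have := IsHomLift.fac' (HiggsSt.Endo f F).p (A i).obj.hom (c.leg (A i))
    exact this.trans (Category.assoc _ _ _).symm
  have hcov : Presieve.ofArrows (fun i => (Pob K (A i)).base.left) (fun i => (m i).base.left) ∈
      Scheme.fpqcPrecoverage c.pt.obj.base.left :=
    Precoverage.mem_coverings_of_isPullback (fun i => (ModStackLib.bh (K₀ K) (A i)).left)
      (ModStackLib.fam_mem (K₀ K) g hg hfam) (eqToHom e₁).left (fun i => (m i).base.left) (fun i => 𝟙 _) fun i => by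
        haveI := ModStackLib.isIso_eqToHom_left e₁
        refine (IsPullback.of_horiz_isIso ⟨?_⟩).flip
        rw [Category.id_comp, hb, ← Over.comp_left]
        simp
  have ht := ModStackLib.tops_mem m hcov
  haveI : ∀ i, Flat (m i).top := fun i => DescLib.ofArrows_flat ht i
  have hsq : Sq c.pt.obj c'.pt.obj n.hom := by
    refine sq_descend m (DescLib.ofArrows_surj ht) (fun i => compat_iff.1 (c.leg (A i)).hom.compat) fun i => ?_
    have : m i ≫ n.hom = (c'.leg (A i)).hom.hom := congrArg InducedCategory.Hom.hom (hfac (A i))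
    rw [this]
    exact compat_iff.1 (c'.leg (A i)).hom.compat
  refine ⟨ObjectProperty.homMk ⟨n.hom, compat_iff.2 hsq⟩, ⟨?_, fun a => ?_⟩, ?_⟩
  · haveI := hn
    exact IsHomLift.of_fac' (HiggsSt.Endo f F).p _ _ e₁ c'.pt_base (IsHomLift.fac' (ModSt.Coh f).p (𝟙 T) n)
  · exact ObjectProperty.hom_ext _ (HiggsSt.Obj.hom_ext (congrArg InducedCategory.Hom.hom (hfac a)))
  · rintro n' ⟨hl, hn'⟩
    have h := huniq ((HiggsSt.Endo.forget f F).map n') ⟨by
        haveI := hl
        exact IsHomLift.of_fac' (ModSt.Coh f).p _ _ e₁ c'.pt_base (IsHomLift.fac' (HiggsSt.Endo f F).p (𝟙 T) n'),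
      fun a => ((HiggsSt.Endo.forget f F).toFunctor.map_comp _ _).symm.trans
        (congrArg (HiggsSt.Endo.forget f F).map (hn' a))⟩
    exact ObjectProperty.hom_ext _ (HiggsSt.Obj.hom_ext (congrArg InducedCategory.Hom.hom h))

theorem isStack_endo [hF : Coh.IsQCoh F] :
    Stk.IsStack (QuotSh.J Scheme.fppfPrecoverage S) (HiggsSt.Endo f F) := by
  haveI := endo_isFibGrpd (f := f) (F := F)
  exact ⟨inferInstance, fun U R hR => SpTorsLib.isStackFor_of_initial (fun K => nonempty_cocone K hR)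
    (fun K c c' => existsUnique_of_cocones K hR c c')⟩

end EndoStackLib
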