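import Groth.Agent.EndoStackLib.Basic
import Groth.Agent.BlowRegLib.ModFibGrpd

/-!
# Morphisms of pairs as commuting squares
-/

set_option autoImplicit false
set_option linter.all false
set_option backward.isDefEq.respectTransparency false
set_option backward.isDefEq.respectTransparency.types false
set_option maxHeartbeats 800000

noncomputable section

universe u

open CategoryTheory CategoryTheory.Limits AlgebraicGeometry Opposite FibCat
open KFlatLib (pb pf tens)
open QCohDescLib (compIso)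

namespace EndoStackLib

theorem isCart_congr {Y Z : Scheme.{u}} {h h' : Y ⟶ Z} (e : h = h') {N : Z.Modules} {M : Y.Modules}
    {c : N ⟶ pf h M} (hc : ModSt.IsCart h c) :
    ModSt.IsCart h' (c ≫ (Scheme.Modules.pushforwardCongr e).hom.app M) := by
  subst e
  have e1 : c ≫ (Scheme.Modules.pushforwardCongr (rfl : h = h)).hom.app M = c := by
    refine Scheme.Modules.hom_ext _ _ fun U => AddCommGrpCat.ext fun w => eq_of_heq ?_
    simp only [Scheme.Modules.Hom.comp_app, ConcreteCategory.comp_apply]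
    rw [Scheme.Modules.pushforwardCongr_hom_app_app]
    exact res_heq M rfl _ _
  rwa [e1]

theorem compIso_natural {W W' Y : Scheme.{u}} (g : W' ⟶ W) {h : W ⟶ Y} {h' : W' ⟶ Y} (e : g ≫ h = h')
    {M N : Y.Modules} (v : M ⟶ N) :
    (Scheme.Modules.pullback g).map ((Scheme.Modules.pullback h).map v) ≫ (compIso N g e).hom =
      (compIso M g e).hom ≫ (Scheme.Modules.pullback h').map v := by
  simp only [compIso, Iso.trans_hom, Iso.app_hom, Category.assoc]
  rw [← (Scheme.Modules.pullbackCongr e).hom.naturality v]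
  exact ((Scheme.Modules.pullbackComp g h).hom.naturality_assoc v _)

variable {X S : Scheme.{u}} {f : X ⟶ S} {F : X.Modules}

/-- The structure compatibility of a comparison map of the twisting modules. -/
def IsTwistMap (A B : HiggsSt.Obj f F) (g : A.toObj ⟶ B.toObj) (cF : B.FT ⟶ pf g.top A.FT) : Prop :=
  ∀ (U : X.Opens) (w : Γ(F, U)), HEq (cF.app (B.p ⁻¹ᵁ U) (B.ι.app U w)) (A.ι.app U w)

variable {A B C : HiggsSt.Obj f F}

theorem twistMap_unique {g : A.toObj ⟶ B.toObj} {cF cF' : B.FT ⟶ pf g.top A.FT} (h : IsTwistMap A B g cF)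
    (h' : IsTwistMap A B g cF') : cF = cF' :=
  (B.ιcart _).1 (Scheme.Modules.hom_ext _ _ fun U => AddCommGrpCat.ext fun w =>
    eq_of_heq ((h U w).trans (h' U w).symm))

/-- The comparison map of the twisting modules. -/
def cFc (A B : HiggsSt.Obj f F) (g : A.toObj ⟶ B.toObj) : B.FT ⟶ pf g.top A.FT :=
  (exists_cF A B g).choose

theorem cFc_spec (A B : HiggsSt.Obj f F) (g : A.toObj ⟶ B.toObj) : IsTwistMap A B g (cFc A B g) :=
  (exists_cF A B g).choose_spec

theorem cFc_cart (A B : HiggsSt.Obj f F) (g : A.toObj ⟶ B.toObj) : ModSt.IsCart g.top (cFc A B g) := by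
  refine BlowRegLib.ModFibGrpd.isCart_cancel B.ιcart ?_
  have e : A.p = g.top ≫ B.p := g.w_p.symm
  have h : A.ι ≫ (Scheme.Modules.pushforwardCongr e).hom.app A.FT =
      B.ι ≫ (Scheme.Modules.pushforward B.p).map (cFc A B g) ≫
        (Scheme.Modules.pushforwardComp g.top B.p).hom.app A.FT := by
    refine Scheme.Modules.hom_ext _ _ fun U => AddCommGrpCat.ext fun w => eq_of_heq ?_
    simp only [Scheme.Modules.Hom.comp_app, ConcreteCategory.comp_apply]
    rw [Scheme.Modules.pushforwardCongr_hom_app_app, Scheme.Modules.pushforwardComp_hom_app_app]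
    have e' : A.p ⁻¹ᵁ U = g.top ⁻¹ᵁ (B.p ⁻¹ᵁ U) := by rw [e]; rfl
    exact (res_heq A.FT e'.symm _ _).trans (cFc_spec A B g U w).symm
  exact h ▸ isCart_congr e A.ιcart

/-- The comparison map of the twisted modules. -/
def Tc (A B : HiggsSt.Obj f F) (g : A.toObj ⟶ B.toObj) : tens B.E B.FT ⟶ pf g.top (tens A.E A.FT) :=
  tMap g.top g.c (cFc A B g)

theorem Tc_cart (A B : HiggsSt.Obj f F) (g : A.toObj ⟶ B.toObj) : ModSt.IsCart g.top (Tc A B g) :=
  isCart_tMap g.top g.cart (cFc_cart A B g)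

/-- The square of a morphism commutes. -/
def Sq (A B : HiggsSt.Obj f F) (g : A.toObj ⟶ B.toObj) : Prop :=
  B.φ ≫ Tc A B g = g.c ≫ (Scheme.Modules.pushforward g.top).map A.φ

theorem compat_iff {g : A.toObj ⟶ B.toObj} : HiggsSt.Obj.Compat A B g ↔ Sq A B g := by
  constructor
  · rintro ⟨cF, T, hi, hp, hs⟩
    obtain rfl := twistMap_unique hi (cFc_spec A B g)
    obtain rfl := pin_unique g.top hp (tMap_pin g.top g.c _)
    exact hs
  · exact fun h => ⟨cFc A B g, Tc A B g, cFc_spec A B g, tMap_pin _ _ _, h⟩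

/-- The twisted module of a pair, as a module on the base change. -/
def pr (A : HiggsSt.Obj f F) : ModSt.Obj f := { A.toObj with E := tens A.E A.FT }

/-- The map of twisted modules over a morphism. -/
def prHom (A B : HiggsSt.Obj f F) (g : A.toObj ⟶ B.toObj) : pr A ⟶ pr B where
  base := g.base
  top := g.top
  w_p := g.w_p
  w_q := g.w_q
  c := Tc A B g
  cart := Tc_cart A B g

theorem prHom_comp (g₁ : A.toObj ⟶ B.toObj) (g₂ : B.toObj ⟶ C.toObj) :
    prHom A C (g₁ ≫ g₂) = prHom A B g₁ ≫ prHom B C g₂ := by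
  have hc : cFc A C (g₁ ≫ g₂) = cFc B C g₂ ≫ (Scheme.Modules.pushforward g₂.top).map (cFc A B g₁) ≫
      (Scheme.Modules.pushforwardComp g₁.top g₂.top).hom.app A.FT := by
    refine twistMap_unique (cFc_spec A C _) fun U w => ?_
    have e : g₂.top ⁻¹ᵁ (C.p ⁻¹ᵁ U) = B.p ⁻¹ᵁ U := by rw [← g₂.w_p]; rfl
    exact (HiggsSt.app_heq (cFc A B g₁) e (cFc_spec B C g₂ U w)).trans (cFc_spec A B g₁ U w)
  refine ModSt.Obj.Hom.ext' rfl rfl fun U x => heq_of_eq ?_
  refine congr($(congrArg (fun ψ => Scheme.Modules.Hom.app ψ U) (?_ : Tc A C (g₁ ≫ g₂) =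
    Tc B C g₂ ≫ (Scheme.Modules.pushforward g₂.top).map (Tc A B g₁) ≫
      (Scheme.Modules.pushforwardComp g₁.top g₂.top).hom.app (tens A.E A.FT))) x)
  refine pin_unique (g₁.top ≫ g₂.top) (tMap_pin _ _ _) ?_
  rw [hc]
  exact HiggsSt.TmulPin.comp (tMap_pin _ _ _) (tMap_pin _ _ _)

theorem map_κTc (g : A.toObj ⟶ B.toObj) {Y : Scheme.{u}} (s : Y ⟶ A.XT) {a : Y ⟶ B.XT} (e : s ≫ g.top = a) :
    (Scheme.Modules.pullback s).map (ModStackLib.κ g.top (Tc A B g)) =
      (compIso (tens B.E B.FT) s e).hom ≫ ModStackLib.θ (prHom A B g) s e :=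
  ModStackLib.map_κ (prHom A B g) s e

theorem sq_iff_κ {g : A.toObj ⟶ B.toObj} : Sq A B g ↔
    (Scheme.Modules.pullback g.top).map B.φ ≫ ModStackLib.κ g.top (Tc A B g) =
      ModStackLib.κ g.top g.c ≫ A.φ := by
  unfold Sq ModStackLib.κ
  rw [← ((Scheme.Modules.pullbackPushforwardAdjunction g.top).homEquiv _ _).symm.injective.eq_iff,
    Adjunction.homEquiv_naturality_left_symm, Adjunction.homEquiv_naturality_right_symm]

/-- The square, pulled back along a map to the source. -/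
def SqAt (A B : HiggsSt.Obj f F) (g : A.toObj ⟶ B.toObj) {Y : Scheme.{u}} (s : Y ⟶ A.XT) {a : Y ⟶ B.XT}
    (e : s ≫ g.top = a) : Prop :=
  (Scheme.Modules.pullback a).map B.φ ≫ ModStackLib.θ (prHom A B g) s e =
    ModStackLib.θ g s e ≫ (Scheme.Modules.pullback s).map A.φ

theorem pulled_sq (g : A.toObj ⟶ B.toObj) {Y : Scheme.{u}} (s : Y ⟶ A.XT) {a : Y ⟶ B.XT}
    (e : s ≫ g.top = a) :
    (Scheme.Modules.pullback s).map ((Scheme.Modules.pullback g.top).map B.φ ≫ ModStackLib.κ g.top (Tc A B g)) =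
      (Scheme.Modules.pullback s).map (ModStackLib.κ g.top g.c ≫ A.φ) ↔ SqAt A B g s e := by
  have hn : (Scheme.Modules.pullback s).map ((Scheme.Modules.pullback g.top).map B.φ) ≫
      (compIso (tens B.E B.FT) s e).hom = (compIso B.E s e).hom ≫ (Scheme.Modules.pullback a).map B.φ :=
    compIso_natural s e B.φ
  rw [Functor.map_comp, Functor.map_comp, map_κTc g s e, ModStackLib.map_κ g s e, ← Category.assoc, hn,
    Category.assoc, Category.assoc, cancel_epi]
  exact Iff.rfl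

theorem sqAt_of_sq {g : A.toObj ⟶ B.toObj} (h : Sq A B g) {Y : Scheme.{u}} (s : Y ⟶ A.XT) {a : Y ⟶ B.XT}
    (e : s ≫ g.top = a) : SqAt A B g s e :=
  (pulled_sq g s e).1 (congrArg _ (sq_iff_κ.1 h))

theorem sq_of_sqAt {g : A.toObj ⟶ B.toObj} {κ₀ : Type u} {Y : κ₀ → Scheme.{u}} (s : ∀ k, Y k ⟶ A.XT)
    [∀ k, Flat (s k)] (hs : ∀ x : A.XT, ∃ k, x ∈ Set.range (s k))
    (h : ∀ k, SqAt A B g (s k) rfl) : Sq A B g :=
  sq_iff_κ.2 (QCohDescLib.eq_of_pullback_map_eq s hs _ _ fun k => (pulled_sq g (s k) rfl).2 (h k))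

theorem sq_of_sqAt_id {g : A.toObj ⟶ B.toObj} (h : SqAt A B g (𝟙 A.XT) (Category.id_comp _)) : Sq A B g := by
  refine sq_of_sqAt (κ₀ := PUnit) (fun _ => 𝟙 A.XT) (fun x => ⟨⟨⟩, x, rfl⟩) fun _ => ?_
  have key : ∀ (a : A.XT ⟶ B.XT) (e : 𝟙 A.XT ≫ g.top = a), SqAt A B g (𝟙 A.XT) e := by
    intro a e
    obtain rfl : g.top = a := (Category.id_comp _).symm.trans e
    exact h
  exact key _ rfl

/-- The squares of a morphism and of its composite give the pulled back square of the second factor. -/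
theorem sqAt_desc {m : A.toObj ⟶ B.toObj} {g : B.toObj ⟶ C.toObj} (hm : Sq A B m) (hmg : Sq A C (m ≫ g))
    {a : A.XT ⟶ C.XT} (e : m.top ≫ g.top = a) : SqAt B C g m.top e := by
  have em : 𝟙 A.XT ≫ m.top = m.top := Category.id_comp _
  have ea : 𝟙 A.XT ≫ (m ≫ g).top = a := (Category.id_comp _).trans e
  have h1 := sqAt_of_sq hmg (𝟙 A.XT) ea
  have h2 := sqAt_of_sq hm (𝟙 A.XT) em
  unfold SqAt at h1 h2 ⊢
  rw [← cancel_mono (ModStackLib.θ (prHom A B m) (𝟙 A.XT) em), Category.assoc, Category.assoc]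
  have k1 : ModStackLib.θ (prHom A C (m ≫ g)) (𝟙 A.XT) ea =
      ModStackLib.θ (prHom B C g) m.top e ≫ ModStackLib.θ (prHom A B m) (𝟙 A.XT) em := by
    rw [ModStackLib.θ_congr (prHom_comp m g) _ _ ea]
    exact ModStackLib.θ_comp (prHom A B m) (prHom B C g) _ em e ea
  rw [k1, ModStackLib.θ_comp m g _ em e ea, Category.assoc] at h1
  exact h1.trans (congrArg (_ ≫ ·) h2.symm)

theorem sq_comp {m : A.toObj ⟶ B.toObj} {g : B.toObj ⟶ C.toObj} (hm : Sq A B m) (hg : Sq B C g) :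
    Sq A C (m ≫ g) :=
  compat_iff.1 (HiggsSt.Obj.compat_comp (compat_iff.2 hm) (compat_iff.2 hg))

theorem sq_cancel {m : A.toObj ⟶ B.toObj} {g : B.toObj ⟶ C.toObj} (hg : Sq B C g) (hmg : Sq A C (m ≫ g)) :
    Sq A B m := by
  refine sq_of_sqAt_id ?_
  have em : 𝟙 A.XT ≫ m.top = m.top := Category.id_comp _
  have ea : 𝟙 A.XT ≫ (m ≫ g).top = m.top ≫ g.top := Category.id_comp _
  have h1 := sqAt_of_sq hmg (𝟙 A.XT) ea
  have h2 := sqAt_of_sq hg m.top rfl
  unfold SqAt at h1 h2 ⊢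
  rw [ModStackLib.θ_congr (prHom_comp m g) _ _ ea,
    ModStackLib.θ_comp (prHom A B m) (prHom B C g) _ em rfl ea, ModStackLib.θ_comp m g _ em rfl ea,
    ← Category.assoc] at h1
  rw [← cancel_epi (ModStackLib.θ g m.top rfl)]
  exact ((Category.assoc _ _ _).symm.trans ((congrArg (· ≫ _) h2.symm).trans h1)).trans (Category.assoc _ _ _)

/-- A morphism commutes with the twisted endomorphisms if it does so after composition with a covering family. -/
theorem sq_descend {g : B.toObj ⟶ C.toObj} {κ₀ : Type u} {D : κ₀ → HiggsSt.Obj f F}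
    (m : ∀ k, (D k).toObj ⟶ B.toObj) [∀ k, Flat (m k).top] (hs : ∀ x : B.XT, ∃ k, x ∈ Set.range (m k).top)
    (hm : ∀ k, Sq (D k) B (m k)) (hmg : ∀ k, Sq (D k) C (m k ≫ g)) : Sq B C g :=
  sq_of_sqAt (fun k => (m k).top) hs fun k => sqAt_desc (hm k) (hmg k) rfl

end EndoStackLib
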